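import Groth.Agent.Calg4.KrullAkizuki
import Mathlib.RingTheory.Localization.AsSubring
import Mathlib.RingTheory.Valuation.LocalSubring
import Mathlib.RingTheory.Ideal.KrullsHeightTheorem
import Mathlib.RingTheory.DedekindDomain.Dvr
import Mathlib.RingTheory.DedekindDomain.AdicValuation
import Mathlib.RingTheory.DedekindDomain.IntegralClosure
import Mathlib.RingTheory.IntegralClosure.IsIntegralClosure.Basic

/-!
# Discrete valuation rings dominating a Noetherian local domain
-/

namespace Groth.EGA43Val

open IsLocalRing

universe u v w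

variable (R : Type u) [CommRing R] [IsDomain R] [IsNoetherianRing R] [IsLocalRing R]
  (K : Type v) [Field K] [Algebra R K] [IsFractionRing R K]

/-- A Noetherian local domain which is not a field is dominated by a finite type subalgebra of its
fraction field at a prime of height one. -/
theorem exists_height_one_dominating (hR : ¬ IsField R) :
    ∃ (B : Subalgebra R K) (P : Ideal B), B.FG ∧ P.IsPrime ∧ P.height = 1 ∧
      P.comap (algebraMap R B) = maximalIdeal R := by
  classical
  have hinj := IsFractionRing.injective R K
  have hm : maximalIdeal R ≠ ⊥ := fun h => hR (isField_iff_maximalIdeal_eq.2 h)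
  obtain ⟨V, hV⟩ := (LocalSubring.range (algebraMap R K)).exists_le_valuationSubring
  obtain ⟨hle, hloc⟩ := hV
  have hval : ∀ r : R, r ∈ maximalIdeal R → V.valuation (algebraMap R K r) < 1 := by
    intro r hr
    have hrV : algebraMap R K r ∈ V := hle ⟨r, rfl⟩
    refine (V.valuation_lt_one_iff ⟨_, hrV⟩).1 (by_contra fun hu => ?_)
    rw [IsLocalRing.notMem_maximalIdeal] at hu
    obtain ⟨⟨_, b, rfl⟩, hb⟩ := (hloc.map_nonunit ⟨_, r, rfl⟩ hu).exists_right_inv
    refine hr (IsUnit.of_mul_eq_one b (hinj ?_))
    rw [map_mul, map_one]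
    exact congrArg Subtype.val hb
  obtain ⟨s, hs⟩ : (maximalIdeal R).FG := IsNoetherian.noetherian _
  have hne : s.Nonempty := Finset.nonempty_iff_ne_empty.2 fun h => hm (by simp [← hs, h])
  obtain ⟨a, has, hmax⟩ := s.exists_max_image (fun r => V.valuation (algebraMap R K r)) hne
  have ha0 : algebraMap R K a ≠ 0 := by
    intro ha
    refine hm ?_
    rw [← hs, Submodule.span_eq_bot]
    intro r hr
    have h1 := hmax r hr
    rw [ha, map_zero, le_zero_iff, map_eq_zero, ← map_zero (algebraMap R K)] at h1
    exact hinj h1
  let T : Finset K := s.image fun r => algebraMap R K r / algebraMap R K a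
  let B : Subalgebra R K := Algebra.adjoin R (T : Set K)
  have hBV : ∀ x ∈ B, x ∈ V := by
    intro x hx
    induction hx using Algebra.adjoin_induction with
    | mem x hx =>
      obtain ⟨r, hr, rfl⟩ := Finset.mem_image.1 (Finset.mem_coe.1 hx)
      rw [← V.valuation_le_one_iff, map_div₀]
      exact div_le_one_of_le₀ (hmax r hr) zero_le
    | algebraMap r => exact hle ⟨r, rfl⟩
    | add x y _ _ hx hy => exact V.add_mem _ _ hx hy
    | mul x y _ _ hx hy => exact V.mul_mem _ _ hx hy
  let ι : B →+* V := (B.val.toRingHom).codRestrict V.toSubring fun x => hBV x x.2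
  let P0 : Ideal B := (maximalIdeal V).comap ι
  haveI : P0.IsPrime := Ideal.IsPrime.comap _
  have ham : a ∈ maximalIdeal R := hs ▸ Submodule.subset_span has
  have haP0 : algebraMap R B a ∈ P0 :=
    (V.valuation_lt_one_iff (ι (algebraMap R B a))).2 (hval a ham)
  obtain ⟨P, hP, -⟩ := Ideal.exists_minimalPrimes_le
    ((Ideal.span_singleton_le_iff_mem _).2 haP0)
  haveI : Algebra.FiniteType R B := (Subalgebra.fg_iff_finiteType B).1 ⟨T, rfl⟩
  haveI : IsNoetherianRing B := Algebra.FiniteType.isNoetherianRing R B
  haveI := hP.1.1
  have haP : algebraMap R B a ∈ P := hP.1.2 (Ideal.mem_span_singleton_self _)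
  refine ⟨B, P, ⟨T, rfl⟩, hP.1.1, le_antisymm ?_ ?_, ?_⟩
  · exact Ideal.height_le_one_of_isPrincipal_of_mem_minimalPrimes _ P hP
  · rw [ENat.one_le_iff_ne_zero]
    intro h0
    rw [Ideal.height_eq_zero_iff, IsDomain.minimalPrimes_eq_singleton_bot, Set.mem_singleton_iff] at h0
    rw [h0, Ideal.mem_bot, ← Subtype.coe_inj] at haP
    exact ha0 (by simpa using haP)
  · refine le_antisymm (le_maximalIdeal (Ideal.comap_ne_top _ hP.1.1.ne_top)) ?_
    rw [← hs, Submodule.span_le]
    intro r hr
    rw [SetLike.mem_coe, Ideal.mem_comap]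
    have hq : algebraMap R K r / algebraMap R K a ∈ B :=
      Algebra.subset_adjoin (Finset.mem_coe.2 (Finset.mem_image_of_mem _ hr))
    rw [show algebraMap R B r = ⟨_, hq⟩ * algebraMap R B a from
      Subtype.ext (by simp [div_mul_cancel₀ _ ha0])]
    exact P.mul_mem_left _ haP

/-- The integral closure of a one-dimensional Noetherian domain in a finite extension of its
fraction field is Dedekind (Krull–Akizuki). -/
theorem isDedekindDomain_integralClosure (A : Type u) [CommRing A] [IsDomain A] [IsNoetherianRing A]
    [Ring.KrullDimLE 1 A] (F : Type v) [Field F] [Algebra A F] [IsFractionRing A F]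
    (L : Type w) [Field L] [Algebra F L] [Algebra A L] [IsScalarTower A F L]
    [FiniteDimensional F L] : IsDedekindDomain (integralClosure A L) := by
  let C := integralClosure A L
  haveI : Ring.DimensionLEOne A :=
    ⟨fun h0 hp => (Ring.krullDimLE_one_iff.1 ‹_› _ hp).resolve_left fun hmin =>
      h0 (by simpa [IsDomain.minimalPrimes_eq_singleton_bot] using hmin)⟩
  haveI : IsIntegrallyClosed C := integralClosure.isIntegrallyClosedOfFiniteExtension F
  haveI : IsNoetherianRing C := by
    refine isNoetherianRing_iff_ideal_fg C |>.2 fun J => ?_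
    by_cases hJ : J = ⊥
    · exact hJ ▸ Submodule.fg_bot
    obtain ⟨x, hxJ, hx0⟩ := Submodule.exists_mem_ne_zero_of_ne_bot
      (Ideal.IsIntegral.comap_ne_bot A hJ)
    let j : C →ₗ[A] (Fin (Module.finrank F L) → F) :=
      ((Module.finBasis F L).equivFun.toLinearMap.restrictScalars A).comp C.val.toLinearMap
    have hj : Function.Injective j :=
      (Module.finBasis F L).equivFun.injective.comp Subtype.val_injective
    let I : Ideal C := Ideal.span {algebraMap A C x}
    have hI : I.restrictScalars A = Ideal.span {x} • (⊤ : Submodule A C) := by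
      rw [Ideal.smul_top_eq_map, Ideal.map_span, Set.image_singleton]
    have hlen : Module.length A (C ⧸ I) ≠ ⊤ := by
      rw [← (Submodule.Quotient.restrictScalarsEquiv A I).length_eq,
        (Submodule.quotEquivOfEq _ _ (hI.trans (Submodule.ideal_span_singleton_smul x _))).length_eq]
      exact ne_top_of_le_ne_top (WithTop.mul_ne_top (ENat.natCast_ne_top _)
        (Ring.ord_ne_top (mem_nonZeroDivisors_of_ne_zero hx0)))
        (Groth.Calg4.length_quotient_le_mul F _ j hj hx0)
    haveI := (isFiniteLength_iff_isNoetherian_isArtinian.1 (Module.length_ne_top_iff.1 hlen)).1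
    haveI : IsNoetherian C (C ⧸ I) := isNoetherian_of_tower A ‹_›
    refine Submodule.fg_of_fg_map_of_fg_inf_ker I.mkQ (IsNoetherian.noetherian _) ?_
    rw [Submodule.ker_mkQ, inf_eq_right.2 (show I ≤ J from (Ideal.span_singleton_le_iff_mem _).2 hxJ)]
    exact ⟨{algebraMap A C x}, by simp [I, Ideal.span]⟩
  haveI : Ring.DimensionLEOne C := Ring.DimensionLEOne.integralClosure A L
  haveI : IsDedekindRing C := {}
  exact {}

/-- In a finite extension of the fraction field, a Noetherian local domain which is not a field is
dominated by a discrete valuation ring. -/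
theorem exists_dvr_dominating_of_finite (hR : ¬ IsField R) (L : Type w) [Field L] [Algebra K L]
    [Algebra R L] [IsScalarTower R K L] [FiniteDimensional K L] :
    ∃ (C : Subalgebra R L) (M : Ideal C), IsDedekindDomain C ∧ IsFractionRing C L ∧ M.IsMaximal ∧
      M ≠ ⊥ ∧ M.comap (algebraMap R C) = maximalIdeal R := by
  obtain ⟨B, P, hBfg, hP, hPh, hPm⟩ := exists_height_one_dominating R K hR
  haveI := hP
  haveI : Algebra.FiniteType R B := (Subalgebra.fg_iff_finiteType B).1 hBfg
  haveI : IsNoetherianRing B := Algebra.FiniteType.isNoetherianRing R B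
  let A := Localization.subalgebra.ofField K P.primeCompl P.primeCompl_le_nonZeroDivisors
  haveI : IsLocalization.AtPrime A P := Localization.subalgebra.isLocalization_ofField K _ _
  haveI : IsLocalRing A := IsLocalization.AtPrime.isLocalRing A P
  haveI : IsNoetherianRing A := IsLocalization.isNoetherianRing P.primeCompl A inferInstance
  have hdimA : ringKrullDim A = 1 := by
    rw [IsLocalization.AtPrime.ringKrullDim_eq_height P A, hPh]; rfl
  haveI : Ring.KrullDimLE 1 A := Ring.krullDimLE_iff.2 (by simp [hdimA])
  have hAm : maximalIdeal A ≠ ⊥ := fun h => by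
    rw [ringKrullDim_eq_zero_of_isField (isField_iff_maximalIdeal_eq.2 h)] at hdimA
    exact zero_ne_one hdimA
  haveI : IsScalarTower A K L := IsScalarTower.of_algebraMap_eq (R := A) (S := K) (A := L) fun _ => rfl
  haveI : IsScalarTower R A L := IsScalarTower.of_algebraMap_eq fun r =>
    IsScalarTower.algebraMap_apply R K L r
  haveI := isDedekindDomain_integralClosure A K L
  haveI : IsFractionRing (integralClosure A L) L :=
    integralClosure.isFractionRing_of_finite_extension K L
  have hinjA : Function.Injective (algebraMap A (integralClosure A L)) :=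
    fun x y h => Subtype.val_injective ((algebraMap K L).injective
      (congrArg Subtype.val h : algebraMap K L (x : K) = algebraMap K L (y : K)))
  obtain ⟨M, hM, hMA⟩ := Ideal.exists_ideal_over_maximal_of_isIntegral
    (S := integralClosure A L) (maximalIdeal A)
    (by rw [(RingHom.injective_iff_ker_eq_bot _).1 hinjA]; exact bot_le)
  refine ⟨(integralClosure A L).restrictScalars R, M, ‹IsDedekindDomain (integralClosure A L)›,
    ‹IsFractionRing (integralClosure A L) L›, hM, ?_, ?_⟩
  · rintro rfl
    exact hAm (hMA.symm.trans (Ideal.comap_bot_of_injective _ hinjA))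
  · ext r
    rw [Ideal.mem_comap, ← hPm, Ideal.mem_comap,
      ← IsLocalization.AtPrime.comap_maximalIdeal A P, Ideal.mem_comap, ← hMA, Ideal.mem_comap]
    have he : algebraMap R ((integralClosure A L).restrictScalars R) r =
        algebraMap A (integralClosure A L) (algebraMap B A (algebraMap R B r)) :=
      Subtype.ext (IsScalarTower.algebraMap_apply R K L r)
    rw [he]
    rfl

omit K in
/-- A Noetherian local domain which is not a field maps injectively and locally to a discrete
valuation ring. -/
theorem exists_dvr_dominating (R : Type u) [CommRing R] [IsDomain R] [IsNoetherianRing R]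
    [IsLocalRing R] (hR : ¬ IsField R) :
    ∃ (A : Type u) (_ : CommRing A) (_ : IsDomain A) (_ : IsDiscreteValuationRing A)
      (φ : R →+* A), Function.Injective φ ∧ IsLocalHom φ := by
  obtain ⟨C, M, hC, hCL, hM, hM0, hMR⟩ :=
    exists_dvr_dominating_of_finite R (FractionRing R) hR (FractionRing R)
  haveI := hC
  haveI := hM
  refine ⟨Localization.AtPrime M, inferInstance, inferInstance,
    IsLocalization.AtPrime.isDiscreteValuationRing_of_dedekind_domain C hM0 _,
    (algebraMap C (Localization.AtPrime M)).comp (algebraMap R C), ?_, ⟨fun r hr => ?_⟩⟩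
  · refine (IsLocalization.injective (Localization.AtPrime M)
      M.primeCompl_le_nonZeroDivisors).comp fun x y h => ?_
    exact IsFractionRing.injective R (FractionRing R) (congrArg Subtype.val h)
  · rw [← IsLocalRing.notMem_maximalIdeal, ← hMR, Ideal.mem_comap]
    exact (IsLocalization.AtPrime.isUnit_to_map_iff (Localization.AtPrime M) M _).1 hr

open IsDedekindDomain in
/-- The valuation subring of a nonzero prime of a Dedekind domain is a discrete valuation ring. -/
theorem isDiscreteValuationRing_valuationSubringAtPrime {C : Type u} [CommRing C]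
    [IsDedekindDomain C] {L : Type v} [Field L] [Algebra C L] [IsFractionRing C L]
    (p : HeightOneSpectrum C) :
    IsDiscreteValuationRing (HeightOneSpectrum.valuationSubringAtPrime L p) :=
  IsLocalization.AtPrime.isDiscreteValuationRing_of_dedekind_domain C p.ne_bot _

open IsDedekindDomain in
/-- A proper valuation subring containing a Dedekind domain with the same fraction field is a
discrete valuation ring. -/
theorem isDiscreteValuationRing_of_le {C : Type u} [CommRing C] [IsDedekindDomain C]
    {L : Type v} [Field L] [Algebra C L] [IsFractionRing C L] (V : ValuationSubring L)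
    (hV : V ≠ ⊤) (hC : ∀ c : C, algebraMap C L c ∈ V) : IsDiscreteValuationRing V := by
  let ι : C →+* V := (algebraMap C L).codRestrict V.toSubring hC
  let M : Ideal C := (IsLocalRing.maximalIdeal V).comap ι
  haveI hM : M.IsPrime := Ideal.IsPrime.comap _
  have hunit : ∀ c : C, c ∉ M → (algebraMap C L c)⁻¹ ∈ V := by
    intro c hc
    obtain ⟨w, hw⟩ := (IsLocalRing.notMem_maximalIdeal.1 hc : IsUnit (ι c)).exists_right_inv
    rw [inv_eq_of_mul_eq_one_right (show algebraMap C L c * (w : L) = 1 from congrArg Subtype.val hw)]
    exact w.2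
  have hM0 : M ≠ ⊥ := by
    intro h0
    refine hV (eq_top_iff.2 fun x _ => ?_)
    obtain ⟨a, b, hb, rfl⟩ := IsFractionRing.div_surjective C x
    rw [div_eq_mul_inv]
    refine V.mul_mem _ _ (hC a) (hunit b ?_)
    rw [h0, Ideal.mem_bot]
    exact nonZeroDivisors.ne_zero hb
  let p : HeightOneSpectrum C := ⟨M, hM, hM0⟩
  have hle : HeightOneSpectrum.valuationSubringAtPrime L p ≤ V := by
    rintro _ ⟨a, b, hb, rfl⟩
    exact V.mul_mem _ _ (hC a) (hunit b hb)
  rw [← ValuationSubring.eq_of_le_of_ne_top _ hle hV]
  exact isDiscreteValuationRing_valuationSubringAtPrime p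

end Groth.EGA43Val
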